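import Mathlib

/-!
# Helper24 — groups acting on a flag: unitriangular ⇒ nilpotent, triangular ⇒ solvable
-/

set_option autoImplicit false
universe u v w

namespace Groth.Agent.Lib.Helper24.Unip.FlagGroup

open scoped commutatorElement

variable {k : Type u} [CommRing k] {V : Type v} [AddCommGroup V] [Module k V]
  {Γ : Type w} [Group Γ] (ρ : Γ →* Module.End k V) (F : ℕ → Submodule k V)

section N
variable (hstab : ∀ g i, ∀ x ∈ F i, ρ g x ∈ F i)

/-- the elements which shift the flag by `j` steps -/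
def N (hstab : ∀ g i, ∀ x ∈ F i, ρ g x ∈ F i) (j : ℕ) : Subgroup Γ where
  carrier := {g | ∀ i, ∀ x ∈ F (i + j), ρ g x - x ∈ F i}
  one_mem' := by
    intro i x _
    simp
  mul_mem' := by
    intro a b ha hb i x hx
    have h1 : ρ (a * b) x - x = ρ a (ρ b x - x) + (ρ a x - x) := by
      rw [map_mul, Module.End.mul_apply, map_sub]
      abel
    rw [h1]
    exact (F i).add_mem (hstab a i _ (hb i x hx)) (ha i x hx)
  inv_mem' := by
    intro a ha i x hx
    have h1 : ρ a⁻¹ x - x = - ρ a⁻¹ (ρ a x - x) := by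
      rw [map_sub, ← Module.End.mul_apply, ← map_mul, inv_mul_cancel, map_one]
      simp
    rw [h1]
    exact (F i).neg_mem (hstab a⁻¹ i _ (ha i x hx))

theorem mem_N {j : ℕ} {g : Γ} : g ∈ N ρ F hstab j ↔ ∀ i, ∀ x ∈ F (i + j), ρ g x - x ∈ F i :=
  Iff.rfl

theorem commutator_mem {j : ℕ} {a g : Γ} (ha : a ∈ N ρ F hstab j) (hg : g ∈ N ρ F hstab 1) :
    ⁅a, g⁆ ∈ N ρ F hstab (j + 1) := by
  intro i x hx
  obtain ⟨u, hu⟩ : ∃ u, u = ρ (g * a)⁻¹ x := ⟨_, rfl⟩
  have hu' : u ∈ F (i + (j + 1)) := hu ▸ hstab _ _ _ hx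
  have hx' : x = ρ (g * a) u := by
    rw [hu, ← Module.End.mul_apply, ← map_mul, mul_inv_cancel, map_one]
    rfl
  have h1 : ρ ⁅a, g⁆ x = ρ (a * g) u := by
    rw [hu, ← Module.End.mul_apply, ← map_mul]
    congr 2
    rw [commutatorElement_def]
    group
  rw [h1]
  nth_rewrite 1 [hx']
  -- `ρ(ag)u - ρ(ga)u = X(Yu) - Y(Xu)` with `X = ρ a - 1`, `Y = ρ g - 1`
  have h2 : ρ (a * g) u - ρ (g * a) u =
      (ρ a (ρ g u - u) - (ρ g u - u)) - (ρ g (ρ a u - u) - (ρ a u - u)) := by
    rw [map_mul, map_mul, Module.End.mul_apply, Module.End.mul_apply, map_sub, map_sub]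
    abel
  rw [h2]
  refine (F i).sub_mem ?_ ?_
  · have hY : ρ g u - u ∈ F (i + j) := by
      have := hg (i + j) u (by rw [add_assoc]; exact hu')
      exact this
    exact ha i _ hY
  · have hX : ρ a u - u ∈ F (i + 1) := by
      have := ha (i + 1) u (by rw [add_assoc, add_comm 1 j]; exact hu')
      exact this
    exact hg i _ hX

end N

/-- a group acting faithfully and unitriangularly on a finite flag is nilpotent -/
theorem isNilpotent_of_flag (hρ : Function.Injective ρ) (hmono : Monotone F) (m : ℕ)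
    (hF0 : F 0 = ⊥) (hFm : F m = ⊤)
    (H : ∀ g i, ∀ x ∈ F (i + 1), ρ g x - x ∈ F i) : Group.IsNilpotent Γ := by
  have hstab : ∀ g i, ∀ x ∈ F i, ρ g x ∈ F i := by
    intro g i x hx
    cases i with
    | zero =>
      rw [hF0, Submodule.mem_bot] at hx
      rw [hx, map_zero]
      exact Submodule.zero_mem _
    | succ i =>
      have h1 := H g i x hx
      have h2 : ρ g x = (ρ g x - x) + x := by abel
      rw [h2]
      exact (F (i + 1)).add_mem (hmono (Nat.le_succ i) h1) hx
  rw [Subgroup.nilpotent_iff_finite_descending_central_series]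
  refine ⟨m, fun n => N ρ F hstab (n + 1), ⟨?_, ?_⟩, ?_⟩
  · rw [eq_top_iff]
    intro g _
    exact fun i x hx => H g i x hx
  · intro x n hx g
    exact commutator_mem ρ F hstab hx (fun i y hy => H g i y hy)
  · rw [eq_bot_iff]
    intro g hg
    rw [Subgroup.mem_bot]
    apply hρ
    rw [map_one]
    refine LinearMap.ext fun x => ?_
    have hx : x ∈ F (0 + (m + 1)) := by
      have : F m ≤ F (0 + (m + 1)) := hmono (by omega)
      rw [hFm] at this
      exact this Submodule.mem_top
    have := hg 0 x hx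
    rw [hF0, Submodule.mem_bot, sub_eq_zero] at this
    rw [this]
    rfl

/-- a group acting faithfully and triangularly (through scalars on the graded pieces) on a finite
flag is solvable -/
theorem isSolvable_of_flag (hρ : Function.Injective ρ) (hmono : Monotone F) (m : ℕ)
    (hF0 : F 0 = ⊥) (hFm : F m = ⊤)
    (H : ∀ g i, ∃ c : k, ∀ x ∈ F (i + 1), ρ g x - c • x ∈ F i) : Group.IsSolvable Γ := by
  have hstab : ∀ g i, ∀ x ∈ F i, ρ g x ∈ F i := by
    intro g i x hx
    cases i with
    | zero =>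
      rw [hF0, Submodule.mem_bot] at hx
      rw [hx, map_zero]
      exact Submodule.zero_mem _
    | succ i =>
      obtain ⟨c, hc⟩ := H g i
      have h1 := hc x hx
      have h2 : ρ g x = (ρ g x - c • x) + c • x := by abel
      rw [h2]
      exact (F (i + 1)).add_mem (hmono (Nat.le_succ i) h1) ((F (i + 1)).smul_mem c hx)
  -- the unitriangular subgroup
  have hnil : Group.IsNilpotent (N ρ F hstab 1) := by
    refine isNilpotent_of_flag (ρ.comp (N ρ F hstab 1).subtype) F ?_ hmono m hF0 hFm ?_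
    · exact hρ.comp Subtype.val_injective
    · intro g i x hx
      exact g.2 i x hx
  have hcomm : commutator Γ ≤ N ρ F hstab 1 := by
    rw [commutator_def, Subgroup.commutator_le]
    intro a _ b _ i x hx
    obtain ⟨u, hu⟩ : ∃ u, u = ρ (b * a)⁻¹ x := ⟨_, rfl⟩
    have hu' : u ∈ F (i + 1) := hu ▸ hstab _ _ _ hx
    have hx' : x = ρ (b * a) u := by
      rw [hu, ← Module.End.mul_apply, ← map_mul, mul_inv_cancel, map_one]
      rfl
    have h1 : ρ ⁅a, b⁆ x = ρ (a * b) u := by
      rw [hu, ← Module.End.mul_apply, ← map_mul]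
      congr 2
      rw [commutatorElement_def]
      group
    rw [h1]
    nth_rewrite 1 [hx']
    obtain ⟨ca, hca⟩ := H a i
    obtain ⟨cb, hcb⟩ := H b i
    have h2 : ρ (a * b) u - ρ (b * a) u =
        (ρ a (ρ b u - cb • u) + cb • (ρ a u - ca • u)) -
          (ρ b (ρ a u - ca • u) + ca • (ρ b u - cb • u)) := by
      rw [map_mul, map_mul, Module.End.mul_apply, Module.End.mul_apply, map_sub, map_sub, map_smul,
        map_smul, smul_sub, smul_sub, smul_smul, smul_smul, mul_comm ca cb]
      abel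
    rw [h2]
    refine (F i).sub_mem ((F i).add_mem ?_ ?_) ((F i).add_mem ?_ ?_)
    · exact hstab a i _ (hcb u hu')
    · exact (F i).smul_mem _ (hca u hu')
    · exact hstab b i _ (hca u hu')
    · exact (F i).smul_mem _ (hcb u hu')
  haveI : Group.IsSolvable (N ρ F hstab 1) := inferInstance
  haveI : Group.IsSolvable (Abelianization Γ) := Group.isSolvable_of_comm fun a b => mul_comm a b
  refine Group.isSolvable_of_ker_le_range (N ρ F hstab 1).subtype (Abelianization.of (G := Γ)) ?_
  rw [Abelianization.ker_of, Subgroup.range_subtype]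
  exact hcomm

end Groth.Agent.Lib.Helper24.Unip.FlagGroup
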