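import Mathlib
import Groth.Agent.Lib.Helper25.Comod
import Groth.Agent.Lib.Helper25.Comod2
import Groth.Agent.Lib.Helper25.Cores
import Groth.Agent.Lib.Helper25.TrivFlag
import Groth.Agent.Lib.Helper25.Flag
import Groth.Agent.S7992

/-!
# Helper24 — covering comodules of a quotient bialgebra by comodules of the bialgebra

`φ : A →ₐc[k] B` a surjective bialgebra map (a closed subgroup `H ⊂ G`).  Every finite-dimensional
`B`-comodule `V` embeds (through its coaction) in `V ⊗ B`, which is a quotient of the restriction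
to `H` of the `A`-comodule `V ⊗ A`; the image of `V` is covered by the image of a finite-dimensional
`A`-subcomodule `W ⊂ V ⊗ A`.  Flags of `W` push forward, giving fixed vectors / lines in `V`.
-/

set_option autoImplicit false
universe u v

open TensorProduct HopfRep

namespace Groth.Agent.Lib.Helper24.Unip

open Groth.Agent.Lib.Helper25.Comod Groth.Agent.Lib.Helper25.Cores

section Push
variable {k : Type u} [Field k] {A B : Type v} [CommRing A] [Bialgebra k A] [CommRing B]
  [Bialgebra k B] (φ : A →ₐc[k] B) (V : Type v) [AddCommGroup V] [Module k V]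

/-- `id ⊗ φ : V ⊗ A → V ⊗ B` between the induced comodules -/
noncomputable def indMap : Hoch.Ind k A V →ₗ[k] Hoch.Ind k B V :=
  (Hoch.Ind.equiv k B V).toLinearMap ∘ₗ LinearMap.lTensor V (φ : A →ₗ[k] B) ∘ₗ
    (Hoch.Ind.equiv k A V).symm.toLinearMap

theorem indMap_surjective (hφ : Function.Surjective φ) : Function.Surjective (indMap φ V) := by
  have h : Function.Surjective (LinearMap.lTensor V (φ : A →ₗ[k] B)) :=
    LinearMap.lTensor_surjective V hφ
  exact h

theorem comul_map (a : A) : Coalgebra.comul (R := k) ((φ : A →ₗ[k] B) a) =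
    TensorProduct.map (φ : A →ₗ[k] B) (φ : A →ₗ[k] B) (Coalgebra.comul (R := k) a) :=
  (congrArg (fun f : A →ₗ[k] _ => f a) (CoalgHomClass.map_comp_comul φ)).symm

/-- `id ⊗ φ` is a map of `B`-comodules from the restriction of `V ⊗ A` to `V ⊗ B` -/
theorem coact_indMap :
    (Comod.coact (k := k) (A := B) (V := Hoch.Ind k B V)) ∘ₗ indMap φ V =
      LinearMap.rTensor B (indMap φ V) ∘ₗ LinearMap.lTensor (Hoch.Ind k A V) (φ : A →ₗ[k] B) ∘ₗ
        (Comod.coact (k := k) (A := A) (V := Hoch.Ind k A V)) := by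
  change (Hoch.Ind.coactAux k B V) ∘ₗ LinearMap.lTensor V (φ : A →ₗ[k] B) =
    LinearMap.rTensor B (LinearMap.lTensor V (φ : A →ₗ[k] B)) ∘ₗ
      LinearMap.lTensor (V ⊗[k] A) (φ : A →ₗ[k] B) ∘ₗ Hoch.Ind.coactAux k A V
  refine TensorProduct.ext' fun v a => ?_
  simp only [LinearMap.comp_apply, LinearMap.lTensor_tmul, Hoch.Ind.coactAux_tmul]
  rw [comul_map]
  generalize Coalgebra.comul (R := k) a = t
  induction t using TensorProduct.induction_on with
  | zero => simp
  | tmul x y => simp
  | add x y hx hy => simp only [map_add, TensorProduct.tmul_add, hx, hy]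

theorem coact_indMap_apply (u : Hoch.Ind k A V) :
    Comod.coact (k := k) (A := B) (V := Hoch.Ind k B V) (indMap φ V u) =
      LinearMap.rTensor B (indMap φ V) (LinearMap.lTensor (Hoch.Ind k A V) (φ : A →ₗ[k] B)
        (Comod.coact (k := k) (A := A) (V := Hoch.Ind k A V) u)) :=
  congrArg (fun f : Hoch.Ind k A V →ₗ[k] _ => f u) (coact_indMap φ V)

variable [Comod k B V]

/-- the cover: a finitely generated `A`-subcomodule of `V ⊗ A` whose image in `V ⊗ B` contains the
image of `V` under the coaction -/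
theorem exists_cover (hφ : Function.Surjective φ) [Module.Finite k V] :
    ∃ W : Submodule k (Hoch.Ind k A V), IsSubcomod (k := k) (A := A) W ∧ W.FG ∧
      LinearMap.range (Hoch.toInd k B V) ≤ W.map (indMap φ V) := by
  classical
  obtain ⟨S, hS⟩ := (Module.finite_def (R := k) (M := V)).mp inferInstance
  choose u hu using fun v : V => indMap_surjective φ V hφ (Hoch.toInd k B V v)
  choose Wv hWv using fun v : V => exists_fg_subcomod (k := k) (C := A) (u v)
  refine ⟨⨆ s ∈ S, Wv s, ?_, ?_, ?_⟩
  · exact Groth.Agent.Lib.Helper25.Comod.isSubcomod_iSup fun s =>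
      Groth.Agent.Lib.Helper25.Comod.isSubcomod_iSup fun _ => (hWv s).1
  · exact Submodule.fg_biSup S Wv fun s _ => (hWv s).2.1
  · rw [LinearMap.range_eq_map, ← hS, Submodule.map_span, Submodule.span_le]
    rintro _ ⟨s, hs, rfl⟩
    refine ⟨u s, ?_, hu s⟩
    have h1 : Wv s ≤ ⨆ s ∈ S, Wv s := le_biSup Wv hs
    exact h1 (hWv s).2.2

end Push

end Groth.Agent.Lib.Helper24.Unip
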