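import Mathlib
import Groth.Agent.Lib.Helper24.Unip.Cover

/-!
# Helper24 — pushing flags through a cover: unipotent / trigonalizable pass to closed subgroups
-/

set_option autoImplicit false
universe u v w₁ w₂ w₃

open TensorProduct HopfRep

namespace Groth.Agent.Lib.Helper24.Unip

open Groth.Agent.Lib.Helper25.Comod Groth.Agent.Lib.Helper25.Cores
open Groth.Agent.Lib.Helper25.Flag Groth.Agent.Lib.Helper25.TrivFlag

section Lin
variable {k : Type u} [Field k] {W : Type w₁} [AddCommGroup W] [Module k W]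
  {U : Type w₂} [AddCommGroup U] [Module k U] (B : Type v) [AddCommGroup B] [Module k B]

theorem rTensor_mem_range_map (g : W →ₗ[k] U) (P : Submodule k W) {x : W ⊗[k] B}
    (hx : x ∈ LinearMap.range (P.subtype.rTensor B)) :
    LinearMap.rTensor B g x ∈ LinearMap.range ((P.map g).subtype.rTensor B) := by
  obtain ⟨y, rfl⟩ := hx
  let g' : P →ₗ[k] P.map g :=
    (g.domRestrict P).codRestrict (P.map g) (fun x => Submodule.mem_map_of_mem x.2)
  have hcomp : (P.map g).subtype ∘ₗ g' = g ∘ₗ P.subtype := rfl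
  refine ⟨LinearMap.rTensor B g' y, ?_⟩
  rw [← LinearMap.comp_apply, ← LinearMap.rTensor_comp, hcomp, LinearMap.rTensor_comp,
    LinearMap.comp_apply]

theorem exists_sup_span_singleton [Module.Finite k W] {P Q : Submodule k W} (hPQ : P ≤ Q)
    (h : Module.finrank k Q = Module.finrank k P + 1) :
    ∃ w₀ ∈ Q, Q = P ⊔ Submodule.span k {w₀} := by
  have hne : P ≠ Q := fun h' => by rw [h'] at h; omega
  obtain ⟨w₀, hw₀Q, hw₀P⟩ := SetLike.exists_of_lt (lt_of_le_of_ne hPQ hne)
  refine ⟨w₀, hw₀Q, ?_⟩
  have hle : P ⊔ Submodule.span k {w₀} ≤ Q :=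
    sup_le hPQ ((Submodule.span_singleton_le_iff_mem w₀ Q).mpr hw₀Q)
  have hlt : P < P ⊔ Submodule.span k {w₀} := by
    refine lt_of_le_of_ne le_sup_left fun h' => hw₀P ?_
    rw [h']
    exact (le_sup_right : Submodule.span k {w₀} ≤ _) (Submodule.mem_span_singleton_self w₀)
  have h1 := Submodule.finrank_lt_finrank_of_lt hlt
  exact (Submodule.eq_of_le_of_finrank_le hle (by omega)).symm

end Lin

section L
variable {k : Type u} [Field k] {A B : Type v} [CommRing A] [Bialgebra k A] [CommRing B]
  [Bialgebra k B] (φ : A →ₐc[k] B)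
  {W : Type w₁} [AddCommGroup W] [Module k W] [Comod k A W]
  {U : Type w₂} [AddCommGroup U] [Module k U] [Comod k B U]
  {V : Type w₃} [AddCommGroup V] [Module k V] [Comod k B V]
  (g : W →ₗ[k] U)
  (hg : ∀ w, Comod.coact (k := k) (A := B) (g w) = LinearMap.rTensor B g
    (LinearMap.lTensor W (φ : A →ₗ[k] B) (Comod.coact (k := k) (A := A) w)))
  (ι : V →ₗ[k] U) (hι : Hoch.IsComodHom B ι) (hinj : Function.Injective ι)
  (hle : LinearMap.range ι ≤ LinearMap.range g)

include hg hι hinj hle

/-- a flag of `W` whose graded pieces are trivial for `B` gives a fixed vector in `V` -/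
theorem exists_fixed_of_hom [Nontrivial V] (m : ℕ) (F : ℕ → Submodule k W) (hF0 : F 0 = ⊥)
    (hFm : F m = ⊤)
    (htriv : ∀ i, ∀ w ∈ F (i + 1),
      LinearMap.lTensor W (φ : A →ₗ[k] B) (Comod.coact (k := k) (A := A) w) - w ⊗ₜ[k] (1 : B) ∈
        LinearMap.range ((F i).subtype.rTensor B)) :
    fixedPts k B V ≠ ⊥ := by
  let G : ℕ → Submodule k U := fun i => (F i).map g
  have hG0 : G 0 = ⊥ := by simp only [G, hF0, Submodule.map_bot]
  have hGtriv : ∀ i, ∀ u ∈ G (i + 1), Comod.coact (k := k) (A := B) u - u ⊗ₜ[k] (1 : B) ∈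
      LinearMap.range ((G i).subtype.rTensor B) := by
    rintro i _ ⟨w, hw, rfl⟩
    rw [hg w]
    have h2 : LinearMap.rTensor B g (LinearMap.lTensor W (φ : A →ₗ[k] B)
        (Comod.coact (k := k) (A := A) w)) - g w ⊗ₜ[k] (1 : B) =
        LinearMap.rTensor B g (LinearMap.lTensor W (φ : A →ₗ[k] B)
          (Comod.coact (k := k) (A := A) w) - w ⊗ₜ[k] (1 : B)) := by
      rw [map_sub, LinearMap.rTensor_tmul]
    rw [h2]
    exact rTensor_mem_range_map B g (F i) (htriv i w hw)
  have hsub : IsSubcomod (k := k) (A := B) (LinearMap.range ι) := isSubcomod_range' hι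
  have hne : LinearMap.range ι ≠ ⊥ := by
    obtain ⟨v, hv⟩ := exists_ne (0 : V)
    intro h0
    have : ι v ∈ LinearMap.range ι := ⟨v, rfl⟩
    rw [h0, Submodule.mem_bot] at this
    exact hv (hinj (this.trans (map_zero ι).symm))
  have hle' : LinearMap.range ι ≤ G m := by
    simp only [G, hFm, Submodule.map_top]
    exact hle
  obtain ⟨u, hu, hu0, hufix⟩ := exists_fixed_of_flag m G hG0 hGtriv _ hsub hne hle'
  obtain ⟨v, rfl⟩ := hu
  refine (Submodule.ne_bot_iff _).mpr ⟨v, ?_, fun h => hu0 (by rw [h, map_zero])⟩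
  have h1 : Comod.coact (k := k) (A := B) (ι v) = ι v ⊗ₜ[k] (1 : B) := hufix
  have h2 : Comod.coact (k := k) (A := B) (ι v) =
      LinearMap.rTensor B ι (Comod.coact (k := k) (A := B) v) := isComodHom_apply hι v
  change Comod.coact (k := k) (A := B) v = v ⊗ₜ[k] (1 : B)
  apply rTensor_injective ι hinj B
  rw [← h2, h1, LinearMap.rTensor_tmul]

/-- a full flag of subcomodules of `W` forces a simple `V` to be a line -/
theorem finrank_eq_one_of_hom [Module.Finite k W] (hV : IsSimpleComod k B V) (n : ℕ)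
    (F : ℕ → Submodule k W) (hmono : Monotone F) (hF0 : F 0 = ⊥) (hFn : F n = ⊤)
    (hsub : ∀ i, IsSubcomod (k := k) (A := A) (F i))
    (hrank : ∀ i, i ≤ n → Module.finrank k (F i) = i) :
    Module.finrank k V = 1 := by
  classical
  haveI : Nontrivial V := hV.1
  let G : ℕ → Submodule k U := fun i => (F i).map g
  have hGsub : ∀ i, IsSubcomod (k := k) (A := B) (G i) := by
    rintro i _ ⟨w, hw, rfl⟩
    rw [hg w]
    exact rTensor_mem_range_map B g (F i) (mem_range_rTensor_of_lTensor (F i) _ _ (hsub i w hw))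
  let X : ℕ → Submodule k V := fun i => (G i).comap ι
  have hXsub : ∀ i, IsSubcomod (k := k) (A := B) (X i) := fun i => isSubcomod_comap hι (hGsub i)
  have hX0 : X 0 = ⊥ := by
    simp only [X, G, hF0, Submodule.map_bot, Submodule.comap_bot]
    exact LinearMap.ker_eq_bot.mpr hinj
  have hXn : X n = ⊤ := by
    rw [eq_top_iff]
    intro v _
    simp only [X, G, hFn, Submodule.map_top, Submodule.mem_comap]
    exact hle ⟨v, rfl⟩
  have hex : ∃ i, X i = ⊤ := ⟨n, hXn⟩
  have hspec := Nat.find_spec hex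
  have hmin := fun j => Nat.find_min hex (m := j)
  have hfn : Nat.find hex ≤ n := Nat.find_min' hex hXn
  cases hn : Nat.find hex with
  | zero =>
    rw [hn, hX0] at hspec
    exact absurd hspec bot_ne_top
  | succ j =>
    rw [hn] at hspec hfn
    have hj : X j = ⊥ := by
      rcases hV.2 (X j) (hXsub j) with h | h
      · exact h
      · exact absurd h (hmin j (by omega))
    have hr : Module.finrank k (F (j + 1)) = Module.finrank k (F j) + 1 := by
      rw [hrank (j + 1) hfn, hrank j (by omega)]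
    obtain ⟨w₀, -, hw₀⟩ := exists_sup_span_singleton (hmono (Nat.le_succ j)) hr
    let θ : V →ₗ[k] U ⧸ G j := (G j).mkQ ∘ₗ ι
    have hθinj : Function.Injective θ := by
      rw [← LinearMap.ker_eq_bot, LinearMap.ker_comp, Submodule.ker_mkQ]
      exact hj
    have hθr : ∀ v, θ v ∈ Submodule.span k {(G j).mkQ (g w₀)} := by
      intro v
      have hv : ι v ∈ G (j + 1) := by
        have : v ∈ X (j + 1) := by rw [hspec]; exact Submodule.mem_top
        exact this
      simp only [G] at hv
      rw [hw₀, Submodule.map_sup, Submodule.map_span, Set.image_singleton] at hv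
      obtain ⟨y, hy, z, hz, hyz⟩ := Submodule.mem_sup.mp hv
      obtain ⟨c, rfl⟩ := Submodule.mem_span_singleton.mp hz
      change (G j).mkQ (ι v) ∈ _
      have hy0 : (G j).mkQ y = 0 := (Submodule.Quotient.mk_eq_zero (G j)).mpr hy
      rw [← hyz, map_add, hy0, zero_add, map_smul]
      exact Submodule.smul_mem _ _ (Submodule.mem_span_singleton_self _)
    let θ' : V →ₗ[k] Submodule.span k {(G j).mkQ (g w₀)} := θ.codRestrict _ hθr
    have hθ'inj : Function.Injective θ' := fun a b h => hθinj (congrArg Subtype.val h)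
    have h1 : Module.finrank k V ≤ Module.finrank k (Submodule.span k {(G j).mkQ (g w₀)}) :=
      LinearMap.finrank_le_finrank_of_injective hθ'inj
    have h2 : Module.finrank k (Submodule.span k {(G j).mkQ (g w₀)}) ≤ 1 := by
      have := finrank_span_le_card (R := k) ({(G j).mkQ (g w₀)} : Set (U ⧸ G j))
      simpa using this
    haveI : Module.Finite k V := Module.Finite.of_injective θ' hθ'inj
    have h3 : 0 < Module.finrank k V := Module.finrank_pos
    omega

end L

end Groth.Agent.Lib.Helper24.Unip
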