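import Mathlib
import Groth.Agent.Lib.Helper24.Unip.Push

/-!
# Helper24 — closed subgroups of unipotent (trigonalizable) groups are unipotent (trigonalizable)
-/

set_option autoImplicit false
universe u v

open TensorProduct HopfRep

namespace Groth.Agent.Lib.Helper24.Unip

open Groth.Agent.Lib.Helper25.Comod Groth.Agent.Lib.Helper25.Cores
open Groth.Agent.Lib.Helper25.Flag

section Assemble
variable {k : Type u} [Field k] {A B : Type v} [CommRing A] [Bialgebra k A] [CommRing B]
  [Bialgebra k B] (φ : A →ₐc[k] B) (hφ : Function.Surjective φ)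

include hφ

theorem exists_cover_data (V : Type v) [AddCommGroup V] [Module k V] [Comod k B V]
    [Module.Finite k V] :
    ∃ (W₀ : Submodule k (Hoch.Ind k A V)) (hW₀ : IsSubcomod (k := k) (A := A) W₀), W₀.FG ∧
      (∀ w : W₀, Comod.coact (k := k) (A := B) (V := Hoch.Ind k B V)
          ((indMap φ V ∘ₗ W₀.subtype) w) =
        LinearMap.rTensor B (indMap φ V ∘ₗ W₀.subtype)
          (LinearMap.lTensor W₀ (φ : A →ₗ[k] B) ((subComod W₀ hW₀).coact w))) ∧
      LinearMap.range (Hoch.toInd k B V) ≤ LinearMap.range (indMap φ V ∘ₗ W₀.subtype) := by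
  obtain ⟨W₀, hW₀, hfg, hle⟩ := exists_cover φ V hφ
  refine ⟨W₀, hW₀, hfg, fun w => ?_, ?_⟩
  · rw [LinearMap.comp_apply, Submodule.subtype_apply, coact_indMap_apply,
      ← subComod_coact W₀ hW₀ w, ← LinearMap.comp_apply (LinearMap.lTensor _ _),
      LinearMap.lTensor_comp_rTensor, ← LinearMap.rTensor_comp_lTensor, LinearMap.comp_apply,
      ← LinearMap.comp_apply (LinearMap.rTensor B (indMap φ V)), ← LinearMap.rTensor_comp]
  · rw [LinearMap.range_comp, Submodule.range_subtype]
    exact hle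

/-- if every finite-dimensional `A`-comodule has a flag whose graded pieces are trivial for `B`,
then `B` is unipotent -/
theorem isUnipotent_of_forall_flag
    (H : ∀ (W : Type v) [AddCommGroup W] [Module k W] [Comod k A W], Module.Finite k W →
      ∃ (m : ℕ) (F : ℕ → Submodule k W), F 0 = ⊥ ∧ F m = ⊤ ∧ ∀ i, ∀ w ∈ F (i + 1),
        LinearMap.lTensor W (φ : A →ₗ[k] B) (Comod.coact (k := k) (A := A) w) -
          w ⊗ₜ[k] (1 : B) ∈ LinearMap.range ((F i).subtype.rTensor B)) :
    IsUnipotent k B := by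
  intro V _ _ _ hfin hnt
  obtain ⟨W₀, hW₀, hfg, hg, hle⟩ := exists_cover_data φ hφ V
  letI := subComod W₀ hW₀
  haveI : Module.Finite k W₀ := Module.Finite.iff_fg.mpr hfg
  obtain ⟨m, F, hF0, hFm, htriv⟩ := H W₀ inferInstance
  exact exists_fixed_of_hom φ (indMap φ V ∘ₗ W₀.subtype) hg (Hoch.toInd k B V)
    (Groth.Agent.S7992.result k B V).1 (Groth.Agent.S7992.result k B V).2 hle m F hF0 hFm htriv

theorem isUnipotent_of_surjective (hU : IsUnipotent k A) : IsUnipotent k B := by
  refine isUnipotent_of_forall_flag φ hφ fun W _ _ _ hfin => ?_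
  obtain ⟨F, -, hF0, -, -, htop, htriv⟩ :=
    exists_flag True (source_of_isUnipotent hU True) (Module.finrank k W) W rfl
  refine ⟨Module.finrank k W, F, hF0, htop _ le_rfl, fun i w hw => ?_⟩
  have h1 := htriv trivial i w hw
  have h2 := mem_range_rTensor_of_lTensor (F i) (φ : A →ₗ[k] B) _ h1
  rw [map_sub, LinearMap.lTensor_tmul] at h2
  have h3 : (φ : A →ₗ[k] B) 1 = 1 := map_one φ
  rwa [h3] at h2

theorem isTrigonalizable_of_surjective (hT : IsTrigonalizable k A) : IsTrigonalizable k B := by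
  intro V _ _ _ hfin hsimple
  obtain ⟨W₀, hW₀, hfg, hg, hle⟩ := exists_cover_data φ hφ V
  letI := subComod W₀ hW₀
  haveI : Module.Finite k W₀ := Module.Finite.iff_fg.mpr hfg
  obtain ⟨F, hmono, hF0, hsub, hrank, htop, -⟩ :=
    exists_flag False (source_of_isTrigonalizable hT) (Module.finrank k W₀) W₀ rfl
  exact finrank_eq_one_of_hom φ (indMap φ V ∘ₗ W₀.subtype) hg (Hoch.toInd k B V)
    (Groth.Agent.S7992.result k B V).1 (Groth.Agent.S7992.result k B V).2 hle hsimple
    (Module.finrank k W₀) F hmono hF0 (htop _ le_rfl) hsub hrank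

end Assemble

end Groth.Agent.Lib.Helper24.Unip
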