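import Mathlib
import Groth.Agent.Lib.Helper24.Unip.Sub
import Groth.Agent.Lib.Helper25.ChevalleyChar

/-!
# Helper24 — the characters of a full flag; the kernel of all characters of a trigonalizable group
is unipotent
-/

set_option autoImplicit false
universe u v w

open TensorProduct HopfRep Coalgebra

namespace Groth.Agent.Lib.Helper24.Unip

open Groth.Agent.Lib.Helper25.Comod Groth.Agent.Lib.Helper25.Cores
open Groth.Agent.Lib.Helper25.Flag Groth.Agent.Lib.Helper25.TrivFlag

section Step
variable {k : Type u} [Field k] {A : Type v} [CommRing A] [Bialgebra k A]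
  {W : Type w} [AddCommGroup W] [Module k W] [Comod k A W]

/-- one step of a flag of subcomodules acts through a character on the graded piece -/
theorem exists_char_of_step {P Q : Submodule k W} (hP : IsSubcomod (k := k) (A := A) P)
    (hQ : IsSubcomod (k := k) (A := A) Q) {w₀ : W} (hw₀ : w₀ ∉ P)
    (hPQ : Q = P ⊔ Submodule.span k {w₀}) :
    ∃ χ : A, IsGroupLikeElem k χ ∧ ∀ w ∈ Q,
      Comod.coact (k := k) (A := A) w - w ⊗ₜ[k] χ ∈ LinearMap.range (P.subtype.rTensor A) := by
  letI := quotComod P hP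
  have hmk := isComodHom_mkQ P hP
  have he : P.mkQ w₀ ≠ 0 := fun h => hw₀ ((Submodule.Quotient.mk_eq_zero P).mp h)
  have hmap : Q.map P.mkQ = Submodule.span k {P.mkQ w₀} := by
    rw [hPQ, Submodule.map_sup, Submodule.mkQ_map_self, bot_sup_eq, Submodule.map_span,
      Set.image_singleton]
  have hsub : IsSubcomod (k := k) (A := A) (Submodule.span k {P.mkQ w₀}) := by
    rw [← hmap]
    exact isSubcomod_map hmk hQ
  obtain ⟨χ, hχ⟩ := (Groth.Agent.Lib.Helper25.ChevalleyChar.mem_range_span_singleton _ _).mp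
    (hsub _ (Submodule.mem_span_singleton_self _))
  refine ⟨χ, Groth.Agent.Lib.Helper25.ChevalleyChar.isGroupLikeElem_of_eigen
    (quotComod P hP) he hχ, fun w hw => ?_⟩
  have hw' : P.mkQ w ∈ Submodule.span k {P.mkQ w₀} := by
    rw [← hmap]
    exact Submodule.mem_map_of_mem hw
  obtain ⟨c, hc⟩ := Submodule.mem_span_singleton.mp hw'
  have h1 : Comod.coact (k := k) (A := A) (P.mkQ w) = P.mkQ w ⊗ₜ[k] χ := by
    rw [← hc, map_smul, hχ, TensorProduct.smul_tmul']
  have hex : Function.Exact (LinearMap.rTensor A P.subtype) (LinearMap.rTensor A P.mkQ) :=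
    rTensor_exact A (LinearMap.exact_subtype_mkQ P) (Submodule.mkQ_surjective P)
  apply (hex _).mp
  rw [map_sub, LinearMap.rTensor_tmul, ← isComodHom_apply hmk w, h1, sub_self]

end Step

section Main
variable {k : Type u} [Field k] {A : Type u} [CommRing A] [HopfAlgebra k A]

/-- if `J` contains `χ - 1` for every character `χ` of a trigonalizable group, `A ⧸ J` is
unipotent -/
theorem isUnipotent_quot_of_isTrigonalizable (hT : IsTrigonalizable k A) (J : Ideal A)
    [J.IsHopfIdeal k] (hJ : ∀ χ : A, IsGroupLikeElem k χ → χ - 1 ∈ J) :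
    IsUnipotent k (A ⧸ J) := by
  refine isUnipotent_of_forall_flag (Bialgebra.Quotient.mkBialgHom (R := k) J)
    Ideal.Quotient.mk_surjective fun W _ _ _ hfin => ?_
  obtain ⟨F, hmono, hF0, hsub, hrank, htop, -⟩ :=
    exists_flag False (source_of_isTrigonalizable hT) (Module.finrank k W) W rfl
  refine ⟨Module.finrank k W, F, hF0, htop _ le_rfl, fun i w hw => ?_⟩
  by_cases hi : i < Module.finrank k W
  · have hr : Module.finrank k (F (i + 1)) = Module.finrank k (F i) + 1 := by
      rw [hrank (i + 1) hi, hrank i hi.le]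
    obtain ⟨w₀, -, hw₀⟩ := exists_sup_span_singleton (hmono (Nat.le_succ i)) hr
    have hw₀P : w₀ ∉ F i := by
      intro hmem
      have : F (i + 1) = F i := by
        rw [hw₀]
        exact sup_eq_left.mpr ((Submodule.span_singleton_le_iff_mem w₀ (F i)).mpr hmem)
      rw [this] at hr
      omega
    obtain ⟨χ, hχ, hstep⟩ := exists_char_of_step (hsub i) (hsub (i + 1)) hw₀P hw₀
    have h2 := mem_range_rTensor_of_lTensor (F i)
      ((Bialgebra.Quotient.mkBialgHom (R := k) J : A →ₐc[k] A ⧸ J) : A →ₗ[k] A ⧸ J) _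
      (hstep w hw)
    rw [map_sub, LinearMap.lTensor_tmul] at h2
    have h3 : ((Bialgebra.Quotient.mkBialgHom (R := k) J : A →ₐc[k] A ⧸ J) : A →ₗ[k] A ⧸ J) χ
        = 1 := by
      have := Ideal.Quotient.eq.mpr (hJ χ hχ)
      rw [map_one] at this
      exact this
    rwa [h3] at h2
  · have hFi : F i = ⊤ := htop i (not_lt.mp hi)
    have hsurj : Function.Surjective (LinearMap.rTensor (A ⧸ J) (F i).subtype) := by
      apply LinearMap.rTensor_surjective
      rw [hFi]
      intro x
      exact ⟨⟨x, Submodule.mem_top⟩, rfl⟩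
    exact LinearMap.mem_range.mpr (hsurj _)

end Main

end Groth.Agent.Lib.Helper24.Unip
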