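import Mathlib
import Groth.Agent.Lib.Helper24.Unip.FlagGroup
import Groth.Agent.Lib.Helper24.Unip.TrigStep

/-!
# Helper24 — rational points of unipotent (trigonalizable) groups are nilpotent (solvable)
-/

set_option autoImplicit false
universe u v w

open TensorProduct HopfRep Coalgebra

namespace Groth.Agent.Lib.Helper24.Unip

open Groth.Agent.Lib.Helper25.Comod Groth.Agent.Lib.Helper25.Flag

section Lin
variable {k : Type u} [CommRing k] {A : Type v} [AddCommGroup A] [Module k A]
  {V : Type w} [AddCommGroup V] [Module k V]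

theorem rid_lTensor_mem (P : Submodule k V) (f : A →ₗ[k] k) {x : V ⊗[k] A}
    (hx : x ∈ LinearMap.range (P.subtype.rTensor A)) :
    TensorProduct.rid k V (LinearMap.lTensor V f x) ∈ P := by
  obtain ⟨y, rfl⟩ := hx
  induction y using TensorProduct.induction_on with
  | zero => simp
  | tmul p a =>
    rw [LinearMap.rTensor_tmul, LinearMap.lTensor_tmul, TensorProduct.rid_tmul]
    exact P.smul_mem _ p.2
  | add y z hy hz =>
    rw [map_add, map_add, map_add]
    exact P.add_mem hy hz

end Lin

section Act
variable {k : Type u} [Field k] {A : Type v} [CommRing A] [HopfAlgebra k A]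

variable (k A) in
/-- the action of the rational points on a comodule -/
noncomputable def actHom (V : Type w) [AddCommGroup V] [Module k V] [Comod k A V] :
    WithConv (A →ₐ[k] k) →* Module.End k V where
  toFun g := Comod.act k A V g.ofConv
  map_one' := act_one
  map_mul' g h := act_mul g h

theorem actHom_apply {V : Type w} [AddCommGroup V] [Module k V] [Comod k A V]
    (g : WithConv (A →ₐ[k] k)) (v : V) :
    actHom k A V g v = TensorProduct.rid k V (LinearMap.lTensor V g.ofConv.toLinearMap
      (Comod.coact (k := k) (A := A) v)) := rfl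

/-- `ε(g · a) = g(a)` for the regular representation -/
theorem counit_act (g : A →ₐ[k] k) (a : A) :
    counit (R := k) (Comod.act k A A g a) = g a := by
  rw [act_apply]
  have h1 : ∀ t : A ⊗[k] A, counit (R := k) (TensorProduct.rid k A
      (LinearMap.lTensor A g.toLinearMap t)) =
      g (TensorProduct.lid k A (LinearMap.rTensor A (counit (R := k)) t)) := by
    intro t
    induction t using TensorProduct.induction_on with
    | zero => simp
    | tmul x y => simp [mul_comm]
    | add y z hy hz => simp only [map_add, hy, hz]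
  have h2 : Comod.coact (k := k) (A := A) (V := A) a = comul (R := k) a := rfl
  rw [h2, h1, Coalgebra.rTensor_counit_comul]
  simp

theorem exists_subcomod_finset' (S : Finset A) :
    ∃ W' : Submodule k A, HopfRep.IsSubcomod (k := k) (A := A) W' ∧ W'.FG ∧ (S : Set A) ⊆ W' := by
  classical
  induction S using Finset.induction_on with
  | empty => exact ⟨⊥, isSubcomod_bot, Submodule.fg_bot, by simp⟩
  | insert a S ha ih =>
    obtain ⟨W₁, h₁, hfg₁, hS⟩ := ih
    obtain ⟨W₂, h₂, hfg₂, ha₂⟩ := exists_fg_subcomod (k := k) (C := A) (V := A) a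
    refine ⟨W₁ ⊔ W₂, isSubcomod_sup h₁ h₂, hfg₁.sup hfg₂, ?_⟩
    intro x hx
    rw [Finset.coe_insert, Set.mem_insert_iff] at hx
    rcases hx with rfl | hx
    · exact (le_sup_right : W₂ ≤ W₁ ⊔ W₂) ha₂
    · exact (le_sup_left : W₁ ≤ W₁ ⊔ W₂) (hS hx)

/-- a faithful finite-dimensional representation -/
theorem exists_faithful [Algebra.FiniteType k A] :
    ∃ (W : Submodule k A) (hW : IsSubcomod (k := k) (A := A) W), W.FG ∧
      Function.Injective (@actHom k _ A _ _ W _ _ (subComod W hW)) := by
  obtain ⟨S, hS⟩ := (Algebra.FiniteType.out : (⊤ : Subalgebra k A).FG)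
  obtain ⟨W, hW, hfg, hSW⟩ := exists_subcomod_finset' (k := k) S
  refine ⟨W, hW, hfg, ?_⟩
  letI := subComod W hW
  intro g h hgh
  apply WithConv.ofConv_injective
  apply AlgHom.ext_of_adjoin_eq_top hS
  intro s hs
  have key : ∀ (f : WithConv (A →ₐ[k] k)) (w : W), f.ofConv (w : A) =
      counit (R := k) ((actHom k A W f w : W) : A) := by
    intro f w
    have h1 := act_comodHom (k := k) (A := A) f.ofConv W.subtype (isComodHom_subtype W hW) w
    rw [← counit_act f.ofConv (w : A)]
    exact congrArg _ h1
  have := key g ⟨s, hSW hs⟩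
  rw [hgh] at this
  rw [← key h ⟨s, hSW hs⟩] at this
  exact this

end Act

section Main
variable {k : Type u} [Field k] {A : Type v} [CommRing A] [HopfAlgebra k A]
  [Algebra.FiniteType k A]

theorem isNilpotent_points (hU : IsUnipotent k A) :
    Group.IsNilpotent (WithConv (A →ₐ[k] k)) := by
  obtain ⟨W, hW, hfg, hinj⟩ := exists_faithful (k := k) (A := A)
  letI := subComod W hW
  haveI : Module.Finite k W := Module.Finite.iff_fg.mpr hfg
  obtain ⟨F, hmono, hF0, -, -, htop, htriv⟩ :=
    exists_flag True (source_of_isUnipotent hU True) (Module.finrank k W) W rfl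
  refine FlagGroup.isNilpotent_of_flag (actHom k A W) F hinj hmono (Module.finrank k W) hF0
    (htop _ le_rfl) fun g i x hx => ?_
  have h1 := rid_lTensor_mem (F i) g.ofConv.toLinearMap (htriv trivial i x hx)
  rw [map_sub, map_sub, LinearMap.lTensor_tmul, TensorProduct.rid_tmul] at h1
  have h2 : g.ofConv.toLinearMap (1 : A) = 1 := map_one g.ofConv
  rw [h2, one_smul] at h1
  exact h1

theorem isSolvable_points (hT : IsTrigonalizable k A) :
    Group.IsSolvable (WithConv (A →ₐ[k] k)) := by
  obtain ⟨W, hW, hfg, hinj⟩ := exists_faithful (k := k) (A := A)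
  letI := subComod W hW
  haveI : Module.Finite k W := Module.Finite.iff_fg.mpr hfg
  obtain ⟨F, hmono, hF0, hsub, hrank, htop, -⟩ :=
    exists_flag False (source_of_isTrigonalizable hT) (Module.finrank k W) W rfl
  refine FlagGroup.isSolvable_of_flag (actHom k A W) F hinj hmono (Module.finrank k W) hF0
    (htop _ le_rfl) fun g i => ?_
  by_cases hi : i < Module.finrank k W
  · have hr : Module.finrank k (F (i + 1)) = Module.finrank k (F i) + 1 := by
      rw [hrank (i + 1) hi, hrank i hi.le]
    obtain ⟨w₀, -, hw₀⟩ := exists_sup_span_singleton (hmono (Nat.le_succ i)) hr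
    have hw₀P : w₀ ∉ F i := by
      intro hmem
      have : F (i + 1) = F i := by
        rw [hw₀]
        exact sup_eq_left.mpr ((Submodule.span_singleton_le_iff_mem w₀ (F i)).mpr hmem)
      rw [this] at hr
      omega
    obtain ⟨χ, -, hstep⟩ := exists_char_of_step (hsub i) (hsub (i + 1)) hw₀P hw₀
    refine ⟨g.ofConv χ, fun x hx => ?_⟩
    have h1 := rid_lTensor_mem (F i) g.ofConv.toLinearMap (hstep x hx)
    rw [map_sub, map_sub, LinearMap.lTensor_tmul, TensorProduct.rid_tmul] at h1
    exact h1
  · refine ⟨1, fun x _ => ?_⟩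
    rw [htop i (not_lt.mp hi)]
    exact Submodule.mem_top

end Main

end Groth.Agent.Lib.Helper24.Unip
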