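import Mathlib
import Groth.Prelude.Def_SGA3b
import Groth.Agent.Lib.Helper24.Unip.MTPrim
import Groth.Agent.Lib.Helper25.PrimBC
import Groth.Agent.Lib.Helper25.NoPrim
import Groth.Agent.Lib.Helper25.DiagBC

/-!
# Helper24 — a group of multiplicative type over a field is cocommutative without primitives
-/

set_option autoImplicit false
universe u

open TensorProduct SGA3b

namespace Groth.Agent.Lib.Helper24.Unip.MTField

open Groth.Agent.Lib.Helper25.DiagBC

section Const
variable (L : Type u) [Field L] (B : Type u) [CommRing B] [HopfAlgebra L B]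

theorem isCocomm_of_isMultTypeConst (h : IsMultTypeConst L B) : Coalgebra.IsCocomm L B := by
  obtain ⟨R', _, _, hff, M, _, ⟨e⟩⟩ := h
  haveI : Nontrivial R' := by
    haveI : Nontrivial (R' ⊗[L] L) := Module.FaithfullyFlat.lTensor_nontrivial L R' L
    exact (TensorProduct.rid L R').symm.toEquiv.nontrivial
  obtain ⟨m, hm⟩ := Ideal.exists_maximal R'
  letI : Field (R' ⧸ m) := Ideal.Quotient.field m
  have h1 : GLSpan R' (R' ⊗[L] B) := glSpan_of_bialgEquiv e
  have h2 : GLSpan (R' ⧸ m) ((R' ⧸ m) ⊗[L] B) := glSpan_bc h1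
  haveI : Coalgebra.IsCocomm (R' ⧸ m) ((R' ⧸ m) ⊗[L] B) :=
    Groth.Agent.Lib.Helper25.NoPrim.isCocomm_of_isDiagonalizable h2
  exact Groth.Agent.Lib.Helper25.PrimBC.isCocomm_of_baseChange L B (R' ⧸ m)

end Const

section Cover
variable (k : Type u) [Field k] (A : Type u) [CommRing A] [HopfAlgebra k A]

theorem exists_ne_zero_of_isMultType (h : IsMultType k A) :
    ∃ f : k, f ≠ 0 ∧ IsMultTypeConst (Localization.Away f) (Localization.Away f ⊗[k] A) := by
  obtain ⟨s, hs, hall⟩ := h
  obtain ⟨f, hfs, hf⟩ : ∃ f ∈ s, f ≠ 0 := by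
    by_contra hcon
    push Not at hcon
    have : Ideal.span s ≤ (⊥ : Ideal k) := by
      rw [Ideal.span_le]
      intro x hx
      rw [hcon x hx]; exact Submodule.zero_mem _
    rw [hs] at this
    exact absurd (this (Submodule.mem_top (x := (1 : k)))) (by simp)
  exact ⟨f, hf, hall f hfs⟩

theorem prim_and_cocomm_of_isMultType (h : IsMultType k A) :
    (∀ p : A, Coalgebra.comul (R := k) p = p ⊗ₜ[k] (1 : A) + (1 : A) ⊗ₜ[k] p → p = 0) ∧
      Coalgebra.IsCocomm k A := by
  obtain ⟨f, hf, h⟩ := exists_ne_zero_of_isMultType k A h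
  have hle : Submonoid.powers f ≤ IsUnit.submonoid k := by
    rintro x ⟨n, rfl⟩
    exact (IsUnit.mk0 f hf).pow n
  let e₀ : k ≃ₐ[k] Localization.Away f := IsLocalization.atUnits k (Submonoid.powers f) hle
  have hL : IsField (Localization.Away f) := e₀.symm.toMulEquiv.isField (Field.toIsField k)
  letI : Field (Localization.Away f) := hL.toField
  constructor
  · intro p hp
    have h1 := Groth.Agent.Lib.Helper24.Unip.MTPrim.primitive_one_tmul (Localization.Away f) p hp
    have h2 := Groth.Agent.Lib.Helper24.Unip.MTPrim.eq_zero_of_primitive_of_isMultTypeConst h _ h1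
    exact Groth.Agent.Lib.Helper25.PrimBC.one_tmul_injective k (Localization.Away f) A
      (h2.trans (TensorProduct.tmul_zero _ _).symm)
  · haveI := isCocomm_of_isMultTypeConst (Localization.Away f) (Localization.Away f ⊗[k] A) h
    exact Groth.Agent.Lib.Helper25.PrimBC.isCocomm_of_baseChange k A (Localization.Away f)

end Cover

end Groth.Agent.Lib.Helper24.Unip.MTField
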