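import Mathlib
import Groth.Prelude.Def_SGA3b
import Groth.Agent.Lib.Helper24.Unip.Isotrivial
import Groth.Agent.Lib.Helper24.Unip.MTField
import Groth.Agent.Lib.Helper24.Unip.DiagSepClosed

/-!
# Helper24 — groups of multiplicative type of finite type over a field are isotrivial
-/

set_option autoImplicit false
universe u

open TensorProduct SGA3b

namespace Groth.Agent.Lib.Helper24.Unip.IsotrivialMain

open Groth.Agent.Lib.Helper25.DiagBC

variable (k : Type u) [Field k] (A : Type u) [CommRing A] [HopfAlgebra k A]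

theorem isDiagFT_of_glSpan (K : Type u) [Field K] (C : Type u) [CommRing C] [HopfAlgebra K C]
    [Algebra.FiniteType K C] (h : GLSpan K C) : IsDiagFT K C := by
  obtain ⟨M, _, ⟨e⟩⟩ := exists_bialgEquiv_of_glSpan h
  refine ⟨M, inferInstance, ?_, ⟨e⟩⟩
  have h1 : Algebra.FiniteType K (MonoidAlgebra K M) :=
    Algebra.FiniteType.equiv (inferInstance : Algebra.FiniteType K C) (e : C ≃ₐ[K] MonoidAlgebra K M)
  exact MonoidAlgebra.finiteType_iff_group_fg.mp h1

theorem isotrivial_of_no_primitive [Algebra.FiniteType k A] [Coalgebra.IsCocomm k A]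
    (hprim : ∀ f : A, Coalgebra.comul (R := k) f = f ⊗ₜ[k] (1 : A) + (1 : A) ⊗ₜ[k] f → f = 0) :
    ∃ (k' : Type u) (_ : Field k') (_ : Algebra k k'), Module.Finite k k' ∧
      Algebra.IsSeparable k k' ∧ IsDiagFT k' (k' ⊗[k] A) := by
  have hF : GLSpan (SeparableClosure k) (SeparableClosure k ⊗[k] A) :=
    DiagSepClosed.isDiagonalizable_of_no_primitive (SeparableClosure k) (SeparableClosure k ⊗[k] A)
      (PIDescent.eq_zero_of_primitive_baseChange hprim)
  obtain ⟨E, hfin, hE⟩ := Isotrivial.exists_finite_glSpan hF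
  refine ⟨E, inferInstance, inferInstance, hfin, ?_, ?_⟩
  · exact Algebra.isSeparable_tower_bot_of_isSeparable k E (SeparableClosure k)
  · exact isDiagFT_of_glSpan E (E ⊗[k] A) hE

theorem isotrivial_of_field (hft : Algebra.FiniteType k A) (h : IsMultType k A) :
    ∃ (k' : Type u) (_ : Field k') (_ : Algebra k k'), Module.Finite k k' ∧
      Algebra.IsSeparable k k' ∧ IsDiagFT k' (k' ⊗[k] A) := by
  obtain ⟨hprim, hco⟩ := MTField.prim_and_cocomm_of_isMultType k A h
  exact isotrivial_of_no_primitive k A hprim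

end Groth.Agent.Lib.Helper24.Unip.IsotrivialMain
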