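import Mathlib
import Groth.Agent.Lib.Helper24.Unip.SocHopf

/-!
# Helper24 — the coconnected component `A1` of a cocommutative Hopf algebra is unipotent
-/

set_option autoImplicit false
universe u v w

open TensorProduct HopfRep Coalgebra

namespace Groth.Agent.Lib.Helper24.Unip.Soc

open Groth.Agent.Lib.Helper24.Unip.Coconn Groth.Agent.Lib.Helper20
  Groth.Agent.Lib.Helper24.HopfFF

section
variable {k : Type u} [Field k] {A : Type v} [CommRing A] [HopfAlgebra k A]
  [Coalgebra.IsCocomm k A]

omit [Coalgebra.IsCocomm k A] in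
theorem val_rid_lTensor (B : Subalgebra k A) (f : B →ₗ[k] k) (f' : A →ₗ[k] k)
    (hf : ∀ b : B, f' (b : A) = f b) (z : B ⊗[k] B) :
    ((TensorProduct.rid k B (LinearMap.lTensor B f z) : B) : A) =
      TensorProduct.rid k A (LinearMap.lTensor A f' (incl₂ B z)) := by
  induction z using TensorProduct.induction_on with
  | zero => simp
  | tmul x y => simp [incl₂, hf]
  | add y z hy hz => simp only [map_add, Subalgebra.coe_add, hy, hz]

theorem isUnipotent_A1 :
    letI := hopfB (isSub_A1 (k := k) (A := A))
    IsUnipotent k (A1 k A) := by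
  letI := hopfB (isSub_A1 (k := k) (A := A))
  let D : ℕ → Submodule k (A1 k A) := fun s => (soc k A s).comap (A1 k A).val.toLinearMap
  refine isUnipotent_of_filtration_tf D ?_ ?_ ?_ ?_
  · intro i j hij b hb
    exact soc_mono hij hb
  · ext b
    constructor
    · intro hb
      obtain ⟨c, hc⟩ := Submodule.mem_span_singleton.mp hb
      refine Submodule.mem_span_singleton.mpr ⟨c, Subtype.ext ?_⟩
      exact hc
    · intro hb
      obtain ⟨c, rfl⟩ := Submodule.mem_span_singleton.mp hb
      exact Submodule.smul_mem _ _ (one_mem_soc 0)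
  · rw [eq_top_iff]
    rintro b -
    obtain ⟨s, hs⟩ := b.2
    exact Submodule.mem_iSup_of_mem s hs
  · intro f s hf b hb
    obtain ⟨f', hf'⟩ := LinearMap.exists_extend (p := Subalgebra.toSubmodule (A1 k A)) f
    have hf'' : ∀ b : A1 k A, f' (b : A) = f b := fun b => LinearMap.congr_fun hf' b
    have h1 : ((tf f b : A1 k A) : A) = tf f' (b : A) := by
      have := val_rid_lTensor (A1 k A) f f' hf'' (comulB (isSub_A1 (k := k) (A := A)) b)
      rw [incl₂_comulB] at this
      exact this
    have hvan : ∀ d ∈ soc k A s, f' d = 0 := by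
      intro d hd
      have := hf ⟨d, s, hd⟩ hd
      rw [← this]
      exact hf'' ⟨d, s, hd⟩
    have h2 : tf f' (b : A) = f' (b : A) • (1 : A) := tf_eq_of_vanish f' hvan hb
    show ((tf f b : A1 k A) : A) ∈ soc k A 0
    rw [h1, h2]
    exact Submodule.smul_mem _ _ (one_mem_soc 0)

end

end Groth.Agent.Lib.Helper24.Unip.Soc
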