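import Mathlib
import Groth.Prelude.Def_SGA3b
import Groth.Agent.Lib.Helper24.Unip.MTMin
import Groth.Agent.Lib.Helper24.Unip.Pointed
import Groth.Agent.Lib.Helper24.Unip.SocBC
import Groth.Agent.Lib.Helper24.Unip.SocUnip
import Groth.Agent.Lib.Helper24.HopfFF.AugIdeal
import Groth.Agent.Lib.Helper25.DiagBC

/-!
# Helper24 — the quotient of a commutative cocommutative Hopf algebra by the ideal generated by the
augmentation ideal of its coconnected component is of multiplicative type
-/

set_option autoImplicit false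
universe u

open TensorProduct HopfRep Coalgebra

namespace Groth.Agent.Lib.Helper24.Unip.MTMain

open Groth.Agent.Lib.Helper24.Unip.Soc Groth.Agent.Lib.Helper24.Unip.Coconn
  Groth.Agent.Lib.Helper24.HopfFF Groth.Agent.Lib.Helper25.DiagBC

section
variable {k : Type u} [Field k] {A : Type u} [CommRing A] [HopfAlgebra k A]
  [Coalgebra.IsCocomm k A] {C : Type u} [CommRing C] [HopfAlgebra k C]

/-- a surjective bialgebra map killing the augmentation ideal of the coconnected component has a
target which becomes diagonalizable over any algebraically closed extension -/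
theorem glSpan_of_kills_A1 (K : Type u) [Field K] [Algebra k K] [IsAlgClosed K]
    (π : A →ₐc[k] C) (hπ : Function.Surjective π)
    (hkill : ∀ b ∈ A1 k A, π b = counit (R := k) b • (1 : C)) :
    GLSpan K (K ⊗[k] C) := by
  let q : K ⊗[k] A →ₐc[K] K ⊗[k] C := Bialgebra.TensorProduct.map (BialgHom.id K K) π
  have hq : ∀ (x : K) (a : A), q (x ⊗ₜ[k] a) = x ⊗ₜ[k] π a := fun x a => rfl
  have hqs : Function.Surjective q := by
    intro z
    induction z using TensorProduct.induction_on with
    | zero => exact ⟨0, map_zero _⟩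
    | tmul x c =>
      obtain ⟨a, rfl⟩ := hπ c
      exact ⟨x ⊗ₜ[k] a, hq x a⟩
    | add y z hy hz =>
      obtain ⟨y', rfl⟩ := hy
      obtain ⟨z', rfl⟩ := hz
      exact ⟨y' + z', map_add _ _ _⟩
  -- `q` maps the coconnected component of `K ⊗ A` to scalars
  have hA1 : ∀ a ∈ A1 K (K ⊗[k] A), ∃ c : K, q a = c • (1 : K ⊗[k] C) := by
    rintro a ⟨s, hs⟩
    obtain ⟨y, rfl⟩ := SocBC.soc_baseChange_le s a hs
    clear hs
    induction y using TensorProduct.induction_on with
    | zero => exact ⟨0, by simp⟩
    | tmul x p =>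
      refine ⟨counit (R := k) (p : A) • x, ?_⟩
      rw [LinearMap.lTensor_tmul, Submodule.subtype_apply, hq, hkill _ ⟨s, p.2⟩,
        TensorProduct.tmul_smul, Algebra.TensorProduct.one_def, TensorProduct.smul_tmul',
        TensorProduct.smul_tmul', smul_eq_mul, mul_one]
    | add y z hy hz =>
      obtain ⟨c, hc⟩ := hy
      obtain ⟨d, hd⟩ := hz
      exact ⟨c + d, by rw [map_add, map_add, hc, hd, add_smul]⟩
  unfold GLSpan
  rw [eq_top_iff]
  rintro z -
  obtain ⟨x, rfl⟩ := hqs z
  have hx := Pointed.mem_span_mul_A1 (K := K) (H := K ⊗[k] A) x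
  induction hx using Submodule.span_induction with
  | mem x hx =>
    obtain ⟨γ, a, hγ, ha, rfl⟩ := hx
    obtain ⟨c, hc⟩ := hA1 a ha
    rw [map_mul, hc, mul_smul_comm, mul_one]
    exact Submodule.smul_mem _ _ (Submodule.subset_span (hγ.map q))
  | zero => rw [map_zero]; exact zero_mem _
  | add x y _ _ hx hy => rw [map_add]; exact add_mem hx hy
  | smul c x _ hx => rw [map_smul]; exact Submodule.smul_mem _ _ hx

theorem isMultTypeConst_of_kills_A1
    (π : A →ₐc[k] C) (hπ : Function.Surjective π)
    (hkill : ∀ b ∈ A1 k A, π b = counit (R := k) b • (1 : C)) :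
    SGA3b.IsMultTypeConst k C := by
  refine ⟨AlgebraicClosure k, inferInstance, inferInstance, inferInstance, ?_⟩
  exact exists_bialgEquiv_of_glSpan (glSpan_of_kills_A1 (AlgebraicClosure k) π hπ hkill)

end

end Groth.Agent.Lib.Helper24.Unip.MTMain
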