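import Mathlib
import Groth.Prelude.Def_Lie2
import Groth.Agent.Lib.Helper24.Unip.SepPts

/-!
# Helper24 — in characteristic zero a unipotent group acts through its Lie algebra

`k` algebraically closed of characteristic zero, `A` a finitely generated unipotent Hopf algebra.
For comodules `V`: a vector killed by all `ε`-derivations is invariant (`coact_eq_of_lie_invariant`),
a subspace stable under all `ε`-derivations is a subcomodule (`isSubcomod_of_lie_stable`), a linear
map intertwining the infinitesimal actions is a comodule map (`coact_comp_eq_of_lie`).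
-/

set_option autoImplicit false
universe u v w w'

open TensorProduct HopfRep Coalgebra

namespace Groth.Agent.Lib.Helper24.Unip.SepMain

open Groth.Agent.Lib.Helper20 Groth.Agent.Lib.Helper24.Unip.SepLocal
  Groth.Agent.Lib.Helper24.Unip.SepPts

section Coef
variable {k : Type u} [Field k] {A : Type v} [CommRing A] [HopfAlgebra k A]
  {V : Type w} [AddCommGroup V] [Module k V] [Comod k A V]

local notation "ρ" => Comod.coact (k := k) (A := A) (V := V)

variable (A) in
/-- the matrix coefficient map `v ↦ (φ ⊗ id)(ρ v)` -/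
noncomputable def coef (φ : V →ₗ[k] k) : V →ₗ[k] A :=
  (TensorProduct.lid k A).toLinearMap ∘ₗ LinearMap.rTensor A φ ∘ₗ ρ

theorem coef_apply (φ : V →ₗ[k] k) (v : V) :
    coef A φ v = TensorProduct.lid k A (LinearMap.rTensor A φ (ρ v)) := rfl

theorem counit_coef (φ : V →ₗ[k] k) (v : V) : counit (R := k) (coef A φ v) = φ v := by
  have h1 : ∀ t : V ⊗[k] A, counit (R := k) (TensorProduct.lid k A (LinearMap.rTensor A φ t)) =
      φ (TensorProduct.rid k V (LinearMap.lTensor V (counit (R := k) (A := A)) t)) := by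
    intro t
    induction t using TensorProduct.induction_on with
    | zero => simp
    | tmul x y => simp [mul_comm]
    | add y z hy hz => simp only [map_add, hy, hz]
  have hc := LinearMap.congr_fun (Comod.counit_comp (k := k) (A := A) (V := V)) v
  simp only [LinearMap.comp_apply, LinearMap.flip_apply, TensorProduct.mk_apply] at hc
  rw [coef_apply, h1, hc]
  simp

theorem D_coef (φ : V →ₗ[k] k) (ξ : A →ₗ[k] k) (v : V) :
    D ξ (coef A φ v) = coef A φ (CB.act ξ v) := by
  let F : A ⊗[k] A →ₗ[k] A := (TensorProduct.rid k A).toLinearMap ∘ₗ LinearMap.lTensor A ξ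
  let Θ : V ⊗[k] (A ⊗[k] A) →ₗ[k] A :=
    (TensorProduct.lid k A).toLinearMap ∘ₗ LinearMap.rTensor A φ ∘ₗ LinearMap.lTensor V F
  have hA : ∀ t : V ⊗[k] A, Θ (LinearMap.lTensor V (comul (R := k) (A := A)) t) =
      D ξ (TensorProduct.lid k A (LinearMap.rTensor A φ t)) := by
    intro t
    induction t using TensorProduct.induction_on with
    | zero => simp
    | tmul x y =>
      simp only [Θ, F, LinearMap.comp_apply, LinearMap.lTensor_tmul, LinearMap.rTensor_tmul,
        LinearEquiv.coe_coe, TensorProduct.lid_tmul, map_smul]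
      rfl
    | add y z hy hz => simp only [map_add, hy, hz]
  have hB0 : ∀ (s : V ⊗[k] A) (b : A), Θ (TensorProduct.assoc k V A A (s ⊗ₜ[k] b)) =
      ξ b • TensorProduct.lid k A (LinearMap.rTensor A φ s) := by
    intro s b
    induction s using TensorProduct.induction_on with
    | zero => simp
    | tmul x y =>
      simp only [Θ, F, LinearMap.comp_apply, TensorProduct.assoc_tmul, LinearMap.lTensor_tmul,
        LinearMap.rTensor_tmul, LinearEquiv.coe_coe, TensorProduct.lid_tmul, TensorProduct.rid_tmul]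
      rw [smul_comm]
    | add y z hy hz => simp only [TensorProduct.add_tmul, map_add, hy, hz, smul_add]
  have hB : ∀ t : V ⊗[k] A, Θ (TensorProduct.assoc k V A A (LinearMap.rTensor A ρ t)) =
      coef A φ (TensorProduct.rid k V (LinearMap.lTensor V ξ t)) := by
    intro t
    induction t using TensorProduct.induction_on with
    | zero => simp
    | tmul x y =>
      rw [LinearMap.rTensor_tmul, hB0, LinearMap.lTensor_tmul, TensorProduct.rid_tmul, map_smul,
        coef_apply]
    | add y z hy hz => simp only [map_add, hy, hz]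
  have hco := LinearMap.congr_fun (Comod.coassoc (k := k) (A := A) (V := V)) v
  simp only [LinearMap.comp_apply, LinearEquiv.coe_coe] at hco
  rw [coef_apply, ← hA, ← hco, hB]
  rfl

omit [Comod k A V] in
theorem aux_equiv {ι : Type*} [DecidableEq ι] (M : Submodule k V) (b : Module.Basis ι k (V ⧸ M))
    (l : ι) (t : V ⊗[k] A) :
    (TensorProduct.equivFinsuppOfBasisLeft (N := A) b (LinearMap.rTensor A M.mkQ t)) l =
      TensorProduct.lid k A (LinearMap.rTensor A (b.coord l ∘ₗ M.mkQ) t) := by
  induction t using TensorProduct.induction_on with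
  | zero => simp
  | tmul x y =>
    rw [LinearMap.rTensor_tmul, TensorProduct.equivFinsuppOfBasisLeft_apply_tmul_apply,
      LinearMap.rTensor_tmul, TensorProduct.lid_tmul, LinearMap.comp_apply, Module.Basis.coord_apply]
  | add y z hy hz => simp only [map_add, Finsupp.add_apply, hy, hz]

/-- separation: an element of `V ⊗ A` all of whose coefficients along functionals vanishing on `M`
vanish lies in `M ⊗ A` -/
theorem mem_range_of_coef (M : Submodule k V) (t : V ⊗[k] A)
    (h : ∀ φ : V →ₗ[k] k, (∀ m ∈ M, φ m = 0) →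
      TensorProduct.lid k A (LinearMap.rTensor A φ t) = 0) :
    t ∈ LinearMap.range (LinearMap.rTensor A M.subtype) := by
  classical
  have hex : Function.Exact (LinearMap.rTensor A M.subtype) (LinearMap.rTensor A M.mkQ) :=
    rTensor_exact A (LinearMap.exact_subtype_mkQ M) (Submodule.mkQ_surjective M)
  apply (hex t).mp
  let b := Module.Basis.ofVectorSpace k (V ⧸ M)
  apply (TensorProduct.equivFinsuppOfBasisLeft (N := A) b).injective
  rw [map_zero]
  ext l
  rw [Finsupp.zero_apply, aux_equiv]
  exact h (b.coord l ∘ₗ M.mkQ) (fun m hm => by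
    rw [LinearMap.comp_apply, Submodule.mkQ_apply, (Submodule.Quotient.mk_eq_zero M).mpr hm,
      map_zero])

theorem eq_zero_of_coef (t : V ⊗[k] A)
    (h : ∀ φ : V →ₗ[k] k, TensorProduct.lid k A (LinearMap.rTensor A φ t) = 0) : t = 0 := by
  obtain ⟨y, rfl⟩ := mem_range_of_coef (⊥ : Submodule k V) t (fun φ _ => h φ)
  have h0 : (⊥ : Submodule k V).subtype = 0 := by
    ext ⟨x, hx⟩
    exact (Submodule.mem_bot k).mp hx
  rw [h0, LinearMap.rTensor_zero, LinearMap.zero_apply]

theorem D_one {ξ : A →ₗ[k] k} (h : IsDer ξ) : D ξ (1 : A) = 0 := by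
  rw [D_apply, Bialgebra.comul_one, Algebra.TensorProduct.one_def, LinearMap.lTensor_tmul,
    TensorProduct.rid_tmul, h.map_one, zero_smul]

end Coef

section Main
variable {k : Type u} [Field k] [IsAlgClosed k] [CharZero k] {A : Type v} [CommRing A]
  [HopfAlgebra k A] [Algebra.FiniteType k A]

/-- set version of the separation lemma -/
theorem eq_zero_of_stable_set (hU : IsUnipotent k A) (G : Set A)
    (hG : ∀ s ∈ G, counit (R := k) s = 0)
    (hD : ∀ ξ : A →ₗ[k] k, IsDer ξ → ∀ s ∈ G, D ξ s ∈ Submodule.span k G) {s : A} (hs : s ∈ G) :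
    s = 0 := by
  refine eq_zero_of_stable hU (Submodule.span k G) ?_ ?_ (Submodule.subset_span hs)
  · intro s hs
    induction hs using Submodule.span_induction with
    | mem x hx => exact hG x hx
    | zero => exact map_zero _
    | add x y _ _ hx hy => rw [map_add, hx, hy, add_zero]
    | smul c x _ hx => rw [map_smul, hx, smul_zero]
  · intro ξ hξ s hs
    induction hs using Submodule.span_induction with
    | mem x hx => exact hD ξ hξ x hx
    | zero => rw [map_zero]; exact zero_mem _
    | add x y _ _ hx hy => rw [map_add]; exact add_mem hx hy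
    | smul c x _ hx => rw [map_smul]; exact Submodule.smul_mem _ _ hx

variable {V : Type w} [AddCommGroup V] [Module k V] [Comod k A V]

/-- a vector killed by the Lie algebra is invariant -/
theorem coact_eq_of_lie_invariant (hU : IsUnipotent k A) (v : V)
    (h : ∀ ξ : A →ₗ[k] k, IsDer ξ → CB.act ξ v = 0) :
    Comod.coact (k := k) (A := A) v = v ⊗ₜ[k] (1 : A) := by
  have key : ∀ φ : V →ₗ[k] k, coef A φ v - φ v • (1 : A) = 0 := by
    intro φ
    refine eq_zero_of_stable_set hU (Set.range fun φ : V →ₗ[k] k => coef A φ v - φ v • (1 : A))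
      ?_ ?_ ⟨φ, rfl⟩
    · rintro _ ⟨φ, rfl⟩
      rw [map_sub, counit_coef, map_smul, Bialgebra.counit_one, smul_eq_mul, mul_one, sub_self]
    · rintro ξ hξ _ ⟨φ, rfl⟩
      rw [map_sub, D_coef, h ξ hξ, map_zero, map_smul, D_one hξ, smul_zero, sub_zero]
      exact zero_mem _
  rw [← sub_eq_zero]
  apply eq_zero_of_coef
  intro φ
  rw [map_sub, map_sub, LinearMap.rTensor_tmul, TensorProduct.lid_tmul, ← coef_apply]
  exact key φ

/-- a subspace stable under the Lie algebra is a subcomodule -/
theorem isSubcomod_of_lie_stable (hU : IsUnipotent k A) (M : Submodule k V)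
    (h : ∀ ξ : A →ₗ[k] k, IsDer ξ → ∀ v ∈ M, CB.act ξ v ∈ M) :
    IsSubcomod (k := k) (A := A) M := by
  intro v hv
  apply mem_range_of_coef
  intro φ hφ
  rw [← coef_apply]
  refine eq_zero_of_stable_set hU
    {a | ∃ (φ : V →ₗ[k] k) (v : V), (∀ m ∈ M, φ m = 0) ∧ v ∈ M ∧ a = coef A φ v} ?_ ?_
    ⟨φ, v, hφ, hv, rfl⟩
  · rintro _ ⟨φ, v, hφ, hv, rfl⟩
    rw [counit_coef]
    exact hφ v hv
  · rintro ξ hξ _ ⟨φ, v, hφ, hv, rfl⟩
    rw [D_coef]
    exact Submodule.subset_span ⟨φ, _, hφ, h ξ hξ v hv, rfl⟩

variable {V' : Type w'} [AddCommGroup V'] [Module k V'] [Comod k A V']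

/-- a linear map intertwining the Lie algebra actions is a comodule map -/
theorem coact_comp_eq_of_lie (hU : IsUnipotent k A) (e : V →ₗ[k] V')
    (h : ∀ ξ : A →ₗ[k] k, IsDer ξ → ∀ v : V, CB.act ξ (e v) = e (CB.act ξ v)) (v : V) :
    Comod.coact (k := k) (A := A) (e v) =
      LinearMap.rTensor A e (Comod.coact (k := k) (A := A) v) := by
  have key : ∀ (φ : V' →ₗ[k] k) (v : V), coef A φ (e v) - coef A (φ ∘ₗ e) v = 0 := by
    intro φ v
    refine eq_zero_of_stable_set hU
      {a | ∃ (φ : V' →ₗ[k] k) (v : V), a = coef A φ (e v) - coef A (φ ∘ₗ e) v} ?_ ?_ ⟨φ, v, rfl⟩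
    · rintro _ ⟨φ, v, rfl⟩
      rw [map_sub, counit_coef, counit_coef, LinearMap.comp_apply, sub_self]
    · rintro ξ hξ _ ⟨φ, v, rfl⟩
      rw [map_sub, D_coef, D_coef, h ξ hξ]
      exact Submodule.subset_span ⟨φ, _, rfl⟩
  rw [← sub_eq_zero]
  apply eq_zero_of_coef
  intro φ
  rw [map_sub, map_sub, ← coef_apply, ← LinearMap.comp_apply (LinearMap.rTensor A φ),
    ← LinearMap.rTensor_comp, ← coef_apply]
  exact key φ v

end Main

end Groth.Agent.Lib.Helper24.Unip.SepMain
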