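import Mathlib
import Groth.Prelude.Def_Lie2
import Groth.Agent.Lib.Helper24.Unip.SepMain

/-!
# Helper24 — `SepMain` in terms of `LieHopf.Lie`
-/

set_option autoImplicit false
universe u w w'

open TensorProduct HopfRep Coalgebra

namespace Groth.Agent.Lib.Helper24.Unip.SepLie

open Groth.Agent.Lib.Helper20 Groth.Agent.Lib.Helper24.Unip.SepLocal
  Groth.Agent.Lib.Helper24.Unip.SepPts Groth.Agent.Lib.Helper24.Unip.SepMain

section
variable {k : Type u} [Field k] {A : Type u} [CommRing A] [HopfAlgebra k A]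

/-- an `ε`-derivation functional as an element of the Lie algebra -/
noncomputable def ofIsDer (ξ₀ : A →ₗ[k] k) (h : IsDer ξ₀) : LieHopf.Lie k A where
  toLinearMap := (ξ₀ : A →ₗ[k] LieHopf.K k A)
  map_one_eq_zero' := h.map_one
  leibniz' a b := by
    show ξ₀ (a * b) = counit (R := k) a * ξ₀ b + counit (R := k) b * ξ₀ a
    rw [h a b]
    ring

variable {V : Type w} [AddCommGroup V] [Module k V]

theorem rid_rTensor {V' : Type w'} [AddCommGroup V'] [Module k V'] (e : V →ₗ[k] V')
    (y : V ⊗[k] k) :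
    TensorProduct.rid k V' (LinearMap.rTensor k e y) = e (TensorProduct.rid k V y) := by
  induction y using TensorProduct.induction_on with
  | zero => simp
  | tmul x c => simp
  | add y z hy hz => simp only [map_add, hy, hz]

variable [Comod k A V]

theorem act_eq_zero_of_lie (v : V)
    (h : ∀ ξ : LieHopf.Lie k A, LinearMap.lTensor V (ξ.toLinearMap.restrictScalars k)
      (Comod.coact (k := k) (A := A) v) = 0) (ξ₀ : A →ₗ[k] k) (hξ : IsDer ξ₀) :
    CB.act ξ₀ v = 0 := by
  have h1 := h (ofIsDer ξ₀ hξ)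
  have h2 : LinearMap.lTensor V ξ₀ (Comod.coact (k := k) (A := A) v) = 0 := h1
  rw [CB.act_apply, h2, map_zero]

theorem act_mem_of_lie (M : Submodule k V) (v : V)
    (h : ∀ ξ : LieHopf.Lie k A, LinearMap.lTensor V (ξ.toLinearMap.restrictScalars k)
      (Comod.coact (k := k) (A := A) v) ∈
        LinearMap.range (LinearMap.rTensor (LieHopf.K k A) M.subtype))
    (ξ₀ : A →ₗ[k] k) (hξ : IsDer ξ₀) : CB.act ξ₀ v ∈ M := by
  have h1 := h (ofIsDer ξ₀ hξ)
  have h2 : LinearMap.lTensor V ξ₀ (Comod.coact (k := k) (A := A) v) ∈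
      LinearMap.range (LinearMap.rTensor k M.subtype) := h1
  obtain ⟨y, hy⟩ := h2
  rw [CB.act_apply, ← hy, rid_rTensor]
  exact (TensorProduct.rid k M y).2

variable {V' : Type w'} [AddCommGroup V'] [Module k V'] [Comod k A V']

theorem act_comm_of_lie (e : V →ₗ[k] V') (v : V)
    (h : ∀ ξ : LieHopf.Lie k A, LinearMap.lTensor V' (ξ.toLinearMap.restrictScalars k)
        (Comod.coact (k := k) (A := A) (e v)) =
      LinearMap.rTensor (LieHopf.K k A) e
        (LinearMap.lTensor V (ξ.toLinearMap.restrictScalars k) (Comod.coact (k := k) (A := A) v)))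
    (ξ₀ : A →ₗ[k] k) (hξ : IsDer ξ₀) : CB.act ξ₀ (e v) = e (CB.act ξ₀ v) := by
  have h1 := h (ofIsDer ξ₀ hξ)
  have h2 : LinearMap.lTensor V' ξ₀ (Comod.coact (k := k) (A := A) (e v)) =
      LinearMap.rTensor k e (LinearMap.lTensor V ξ₀ (Comod.coact (k := k) (A := A) v)) := h1
  rw [CB.act_apply, h2, rid_rTensor, CB.act_apply]

end

end Groth.Agent.Lib.Helper24.Unip.SepLie
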